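import Cfsg.Agent.Lib.Helper16.CenterIndex

set_option autoImplicit false
set_option linter.unusedSectionVars false

/-! Nonabelian `p`-groups with an abelian subgroup of index `p`: elementary facts. -/

namespace Cfsg.Agent.Lib.Helper16.AI

open Cfsg.Agent.Lib.Helper16.CenterIndex

variable {Ω : Type*} [Group Ω] {S A : Subgroup Ω} [Finite S] {p : ℕ} [hp : Fact p.Prime]

/-- `A` is an abelian subgroup of index `p` of the nonabelian `p`-group `S`. -/
structure AData (p : ℕ) (S A : Subgroup Ω) : Prop where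
  hS : IsPGroup p S
  hAS : A ≤ S
  hab : ∀ a ∈ A, ∀ b ∈ A, a * b = b * a
  hidx : (A.subgroupOf S).index = p
  hna : ∃ x ∈ S, ∃ y ∈ S, x * y ≠ y * x

theorem AData.normal (X : AData p S A) : (A.subgroupOf S).Normal := by
  apply Subgroup.normal_of_index_eq_minFac_card
  rw [X.hidx]
  obtain ⟨n, hn⟩ := X.hS.exists_card_eq
  have hn0 : n ≠ 0 := by
    rintro rfl
    rw [pow_zero] at hn
    have h1 := Subgroup.index_dvd_card (A.subgroupOf S)
    rw [hn, X.hidx] at h1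
    exact hp.out.one_lt.ne' (Nat.dvd_one.1 h1)
  rw [hn, hp.out.pow_minFac hn0]

theorem AData.conj_mem (X : AData p S A) {s a : Ω} (hs : s ∈ S) (ha : a ∈ A) : s * a * s⁻¹ ∈ A := by
  have := X.normal
  have h1 : (⟨a, X.hAS ha⟩ : S) ∈ A.subgroupOf S := Subgroup.mem_subgroupOf.2 ha
  have h2 := this.conj_mem _ h1 ⟨s, hs⟩
  exact Subgroup.mem_subgroupOf.1 h2

theorem AData.decomp (X : AData p S A) {x s : Ω} (hx : x ∈ S) (hxA : x ∉ A) (hs : s ∈ S) :
    ∃ a ∈ A, ∃ i : ℕ, s = a * x ^ i := by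
  have := X.normal
  have hq : Nat.card (↥S ⧸ A.subgroupOf S) = p := by
    rw [← Subgroup.index_eq_card, X.hidx]
  have hx1 : (QuotientGroup.mk (⟨x, hx⟩ : S) : ↥S ⧸ A.subgroupOf S) ≠ 1 := by
    intro h
    rw [QuotientGroup.eq_one_iff] at h
    exact hxA (Subgroup.mem_subgroupOf.1 h)
  obtain ⟨i, hi⟩ := mem_powers_of_prime_card hq hx1
    (g' := (QuotientGroup.mk (⟨s, hs⟩ : S) : ↥S ⧸ A.subgroupOf S))
  have h2 : (QuotientGroup.mk ((⟨s, hs⟩ : S) * ((⟨x, hx⟩ : S) ^ i)⁻¹) : ↥S ⧸ A.subgroupOf S) = 1 := by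
    rw [QuotientGroup.mk_mul, QuotientGroup.mk_inv, QuotientGroup.mk_pow]
    change _ ^ i = _ at hi
    rw [hi, mul_inv_cancel]
  rw [QuotientGroup.eq_one_iff] at h2
  refine ⟨s * (x ^ i)⁻¹, Subgroup.mem_subgroupOf.1 h2, i, by group⟩

theorem AData.mem_ZS (X : AData p S A) {x a : Ω} (hx : x ∈ S) (hxA : x ∉ A) (ha : a ∈ A)
    (hc : a * x = x * a) : a ∈ ZS S := by
  refine CenterIndex.mem_ZS.2 ⟨X.hAS ha, fun s hs => ?_⟩
  obtain ⟨b, hb, i, rfl⟩ := X.decomp hx hxA hs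
  have h1 : Commute a (x ^ i) := (show Commute a x from hc).pow_right i
  calc b * x ^ i * a = b * (x ^ i * a) := by group
    _ = b * (a * x ^ i) := by rw [h1.eq]
    _ = (b * a) * x ^ i := by group
    _ = (a * b) * x ^ i := by rw [X.hab a ha b hb]
    _ = a * (b * x ^ i) := by group

theorem AData.lt (X : AData p S A) : A < S := by
  refine lt_of_le_of_ne X.hAS (fun h => ?_)
  obtain ⟨x, hx, y, hy, hne⟩ := X.hna
  exact hne (X.hab x (h ▸ hx) y (h ▸ hy))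

theorem AData.ZS_le (X : AData p S A) : ZS S ≤ A := by
  intro z hz
  by_contra hzA
  obtain ⟨x, hx, y, hy, hne⟩ := X.hna
  apply hne
  obtain ⟨a, ha, i, rfl⟩ := X.decomp (CenterIndex.ZS_le hz) hzA hx
  obtain ⟨b, hb, j, rfl⟩ := X.decomp (CenterIndex.ZS_le hz) hzA hy
  have hzi : z ^ i ∈ ZS S := (ZS S).pow_mem hz i
  have hzj : z ^ j ∈ ZS S := (ZS S).pow_mem hz j
  calc a * z ^ i * (b * z ^ j) = a * (z ^ i * b) * z ^ j := by group
    _ = a * (b * z ^ i) * z ^ j := by rw [ZS_comm hzi (X.hAS hb)]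
    _ = (a * b) * (z ^ i * z ^ j) := by group
    _ = (b * a) * (z ^ j * z ^ i) := by rw [X.hab a ha b hb, ← pow_add, ← pow_add, add_comm]
    _ = b * (a * z ^ j) * z ^ i := by group
    _ = b * (z ^ j * a) * z ^ i := by rw [ZS_comm hzj (X.hAS ha)]
    _ = b * z ^ j * (a * z ^ i) := by group

theorem AData.pow_mem (X : AData p S A) {x : Ω} (hx : x ∈ S) : x ^ p ∈ A := by
  have := X.normal
  have hq : Nat.card (↥S ⧸ A.subgroupOf S) = p := by
    rw [← Subgroup.index_eq_card, X.hidx]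
  have h1 := pow_card_eq_one' (x := (QuotientGroup.mk (⟨x, hx⟩ : S) : ↥S ⧸ A.subgroupOf S))
  rw [hq, ← QuotientGroup.mk_pow, QuotientGroup.eq_one_iff] at h1
  exact Subgroup.mem_subgroupOf.1 h1

theorem AData.eq_of_lt (X : AData p S A) {Q : Subgroup Ω} (hQ : A < Q) (hQS : Q ≤ S) : Q = S := by
  obtain ⟨x, hx, hxA⟩ := SetLike.not_le_iff_exists.1 (not_le_of_gt hQ)
  refine le_antisymm hQS (fun s hs => ?_)
  obtain ⟨a, ha, i, rfl⟩ := X.decomp (hQS hx) hxA hs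
  exact Q.mul_mem (hQ.le ha) (Q.pow_mem hx i)

/-- The centralizer in `S` of an element `u` outside `A` is `Z(S)⟨u⟩`. -/
theorem AData.cent (X : AData p S A) {u y : Ω} (hu : u ∈ S) (huA : u ∉ A) (hy : y ∈ S)
    (hc : y * u = u * y) : ∃ z ∈ ZS S, ∃ i : ℕ, y = z * u ^ i := by
  obtain ⟨a, ha, i, rfl⟩ := X.decomp hu huA hy
  refine ⟨a, X.mem_ZS hu huA ha ?_, i, rfl⟩
  have h1 : a * u ^ i * u = a * u * u ^ i := by
    rw [mul_assoc, mul_assoc, ← pow_succ, ← pow_succ']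
  rw [h1, ← mul_assoc] at hc
  exact mul_right_cancel hc

end Cfsg.Agent.Lib.Helper16.AI
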