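import Cfsg.Agent.Lib.Helper16.AI.Basic

set_option autoImplicit false
set_option linter.unusedSectionVars false

/-! A nonabelian `p`-group with an abelian subgroup of index `p` and centre of order `p` has
maximal class. -/

namespace Cfsg.Agent.Lib.Helper16.AI

open Cfsg.Agent.Lib.Helper16.CenterIndex

theorem card_le_ker_mul_map {H : Type*} [Group H] [Finite H] (ψ : H →* H) (M : Subgroup H) :
    Nat.card M ≤ Nat.card ψ.ker * Nat.card (M.map ψ) := by
  have h1 := Subgroup.card_eq_card_quotient_mul_card_subgroup (ψ.domRestrict M).ker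
  have h2 : Nat.card (↥M ⧸ (ψ.domRestrict M).ker) = Nat.card (M.map ψ) := by
    rw [Nat.card_congr (QuotientGroup.quotientKerEquivRange (ψ.domRestrict M)).toEquiv,
      MonoidHom.domRestrict_range]
  have h3 : Nat.card (ψ.domRestrict M).ker ≤ Nat.card ψ.ker := by
    apply Nat.card_le_card_of_injective
      (fun x : (ψ.domRestrict M).ker => (⟨x.1.1, x.2⟩ : ψ.ker))
    intro x y hxy
    apply Subtype.ext
    apply Subtype.ext
    exact congrArg (fun w : ψ.ker => (w : H)) hxy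
  rw [h1, h2, mul_comm]
  exact Nat.mul_le_mul_right _ h3

variable {Ω : Type*} [Group Ω] {S A : Subgroup Ω} [Finite S] {p : ℕ} [hp : Fact p.Prime]

/-- `a ↦ [a, x]` as an endomorphism of `A`. -/
def psi (X : AData p S A) (x : Ω) (hx : x ∈ S) : ↥A →* ↥A where
  toFun a := ⟨a * x * (a : Ω)⁻¹ * x⁻¹, by
    have : (a : Ω) * x * (a : Ω)⁻¹ * x⁻¹ = a * (x * (a : Ω)⁻¹ * x⁻¹) := by group
    rw [this]
    exact A.mul_mem a.2 (X.conj_mem hx (A.inv_mem a.2))⟩
  map_one' := by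
    apply Subtype.ext
    simp
  map_mul' := by
    intro a b
    apply Subtype.ext
    have ha' : x * (a : Ω)⁻¹ * x⁻¹ ∈ A := X.conj_mem hx (A.inv_mem a.2)
    have hb' : (b : Ω) * (x * (b : Ω)⁻¹ * x⁻¹) ∈ A := A.mul_mem b.2 (X.conj_mem hx (A.inv_mem b.2))
    show ((a : Ω) * b) * x * ((a : Ω) * b)⁻¹ * x⁻¹
      = ((a : Ω) * x * (a : Ω)⁻¹ * x⁻¹) * ((b : Ω) * x * (b : Ω)⁻¹ * x⁻¹)
    calc ((a : Ω) * b) * x * ((a : Ω) * b)⁻¹ * x⁻¹
        = a * (((b : Ω) * (x * (b : Ω)⁻¹ * x⁻¹)) * (x * (a : Ω)⁻¹ * x⁻¹)) := by group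
      _ = a * ((x * (a : Ω)⁻¹ * x⁻¹) * ((b : Ω) * (x * (b : Ω)⁻¹ * x⁻¹))) := by
          rw [X.hab _ hb' _ ha']
      _ = ((a : Ω) * x * (a : Ω)⁻¹ * x⁻¹) * ((b : Ω) * x * (b : Ω)⁻¹ * x⁻¹) := by group

theorem psi_apply (X : AData p S A) (x : Ω) (hx : x ∈ S) (a : A) :
    ((psi X x hx a : A) : Ω) = a * x * (a : Ω)⁻¹ * x⁻¹ := rfl

theorem card_ker_psi (X : AData p S A) {x : Ω} (hx : x ∈ S) (hxA : x ∉ A) :
    Nat.card (psi X x hx).ker = Nat.card (ZS S) := by
  rw [← Subgroup.card_map_of_injective A.subtype_injective]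
  congr 2
  ext z
  rw [Subgroup.mem_map]
  constructor
  · rintro ⟨a, ha, rfl⟩
    apply X.mem_ZS hx hxA a.2
    have h1 : (a : Ω) * x * (a : Ω)⁻¹ * x⁻¹ = 1 := congrArg Subtype.val ha
    show (a : Ω) * x = x * a
    calc (a : Ω) * x = ((a : Ω) * x * (a : Ω)⁻¹ * x⁻¹) * (x * a) := by group
      _ = x * a := by rw [h1, one_mul]
  · intro hz
    refine ⟨⟨z, X.ZS_le hz⟩, ?_, rfl⟩
    rw [MonoidHom.mem_ker]
    apply Subtype.ext
    show z * x * z⁻¹ * x⁻¹ = 1
    rw [← ZS_comm hz hx]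
    group

/-- The iterated images of `ψ`. -/
def Mi (ψ : ↥A →* ↥A) : ℕ → Subgroup ↥A
  | 0 => ⊤
  | i + 1 => (Mi ψ i).map ψ

theorem Mi_le (X : AData p S A) {x : Ω} (hx : x ∈ S) (i : ℕ) :
    (Mi (psi X x hx) i).map A.subtype ≤ S.lowerCentralSeries i := by
  induction i with
  | zero =>
    rintro _ ⟨a, -, rfl⟩
    exact X.hAS a.2
  | succ i ih =>
    rintro _ ⟨_, ⟨m, hm, rfl⟩, rfl⟩
    rw [Subgroup.lowerCentralSeries_succ]
    have h1 : (m : Ω) ∈ S.lowerCentralSeries i := ih ⟨m, hm, rfl⟩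
    exact Subgroup.commutator_mem_commutator h1 hx

theorem AData.card_A (X : AData p S A) {n : ℕ} (hn : Nat.card S = p ^ (n + 1)) :
    Nat.card A = p ^ n := by
  have h1 := Subgroup.card_mul_index (A.subgroupOf S)
  rw [X.hidx, hn, Nat.card_congr (Subgroup.subgroupOfEquivOfLe X.hAS).toEquiv, pow_succ] at h1
  exact Nat.eq_of_mul_eq_mul_right hp.out.pos h1

theorem AData.lcs_ne_bot (X : AData p S A) (hZ : Nat.card (ZS S) = p) {n : ℕ}
    (hn : Nat.card S = p ^ n) (h2 : 2 ≤ n) : S.lowerCentralSeries (n - 2) ≠ ⊥ := by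
  obtain ⟨m, rfl⟩ : ∃ m, n = m + 2 := ⟨n - 2, by omega⟩
  have hA : Nat.card A = p ^ (m + 1) := X.card_A hn
  obtain ⟨x, hx, hxA⟩ := SetLike.not_le_iff_exists.1 (not_le_of_gt X.lt)
  have : Finite A := finite_of_le X.hAS
  have hker : Nat.card (psi X x hx).ker = p := by rw [card_ker_psi X hx hxA, hZ]
  have key : ∀ i, p ^ (m + 1) ≤ p ^ i * Nat.card (Mi (psi X x hx) i) := by
    intro i
    induction i with
    | zero =>
      show p ^ (m + 1) ≤ p ^ 0 * Nat.card (⊤ : Subgroup ↥A)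
      rw [Subgroup.card_top, hA, pow_zero, one_mul]
    | succ i ih =>
      have h3 := card_le_ker_mul_map (psi X x hx) (Mi (psi X x hx) i)
      rw [hker] at h3
      calc p ^ (m + 1) ≤ p ^ i * Nat.card (Mi (psi X x hx) i) := ih
        _ ≤ p ^ i * (p * Nat.card ((Mi (psi X x hx) i).map (psi X x hx))) :=
            Nat.mul_le_mul_left _ h3
        _ = p ^ (i + 1) * Nat.card (Mi (psi X x hx) (i + 1)) := by
            rw [pow_succ, mul_assoc]
            rfl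
  have h4 := key m
  rw [pow_succ] at h4
  have h5 : p ≤ Nat.card (Mi (psi X x hx) m) :=
    Nat.le_of_mul_le_mul_left h4 (pow_pos hp.out.pos m)
  intro hbot
  have h6 := Mi_le X hx m
  rw [show m + 2 - 2 = m by omega] at hbot
  rw [hbot, le_bot_iff, (Subgroup.map_eq_bot_iff_of_injective _ A.subtype_injective)] at h6
  rw [h6, Subgroup.card_bot] at h5
  exact absurd h5 (not_le.2 hp.out.one_lt)

end Cfsg.Agent.Lib.Helper16.AI
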