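import Cfsg.Agent.Lib.Helper16.CIActive
import Cfsg.Agent.Lib.Helper89.ChainStab

set_option autoImplicit false
set_option linter.unusedSectionVars false

/-! Local analysis of an abelian subgroup `U ≥ Z(S)` normalized by an element `a` of `S` with
`[a, U] ≤ D`, `D ≤ Z(S)` of order `p`, and `C_U(a) = Z(S)`. -/

namespace Cfsg.Agent.Lib.Helper16.AI

open Cfsg Cfsg.FusionSystem Cfsg.Agent.Lib.Helper87 Cfsg.Agent.Lib.Helper16.CenterIndex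
open Cfsg.Agent.Lib.Helper16.CIFusion

variable {Ω : Type*} [Group Ω] {S : Subgroup Ω} [Finite S] {p : ℕ} [hp : Fact p.Prime]

structure Base (p : ℕ) (F : FusionSystem S) (D : Subgroup Ω) : Prop where
  hS : IsPGroup p S
  hF : F.IsSaturated p
  hDZ : D ≤ ZS S
  hDc : Nat.card D = p

structure Loc (S D U : Subgroup Ω) (a : Ω) : Prop where
  hDZ : D ≤ ZS S
  hZU : ZS S ≤ U
  hUS : U ≤ S
  hab : ∀ u ∈ U, ∀ v ∈ U, u * v = v * u
  ha : a ∈ S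
  hcomm : ∀ u ∈ U, a * u * a⁻¹ * u⁻¹ ∈ D
  hcent : ∀ u ∈ U, a * u = u * a → u ∈ ZS S

variable {F : FusionSystem S} {D U : Subgroup Ω} {a : Ω}

theorem Loc.comm_mul (L : Loc S D U a) {u v : Ω} (hu : u ∈ U) (hv : v ∈ U) :
    a * (u * v) * a⁻¹ * (u * v)⁻¹ = (a * u * a⁻¹ * u⁻¹) * (a * v * a⁻¹ * v⁻¹) := by
  have he := L.hDZ (L.hcomm v hv)
  calc a * (u * v) * a⁻¹ * (u * v)⁻¹
      = (a * u * a⁻¹ * u⁻¹) * (u * (a * v * a⁻¹ * v⁻¹)) * u⁻¹ := by group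
    _ = (a * u * a⁻¹ * u⁻¹) * ((a * v * a⁻¹ * v⁻¹) * u) * u⁻¹ := by rw [ZS_comm he (L.hUS hu)]
    _ = (a * u * a⁻¹ * u⁻¹) * (a * v * a⁻¹ * v⁻¹) := by group

theorem Loc.comm_pow (L : Loc S D U a) {u : Ω} (hu : u ∈ U) (m : ℕ) :
    a * u ^ m * a⁻¹ * (u ^ m)⁻¹ = (a * u * a⁻¹ * u⁻¹) ^ m := by
  induction m with
  | zero => simp
  | succ m ih => rw [pow_succ, L.comm_mul (U.pow_mem hu m) hu, ih, pow_succ]

theorem Loc.pow_comm (L : Loc S D U a) {u : Ω} (hu : u ∈ U) (i : ℕ) :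
    a ^ i * u * (a ^ i)⁻¹ * u⁻¹ = (a * u * a⁻¹ * u⁻¹) ^ i := by
  induction i with
  | zero => simp
  | succ i ih =>
    have he : (a * u * a⁻¹ * u⁻¹) ^ i ∈ ZS S := (ZS S).pow_mem (L.hDZ (L.hcomm u hu)) i
    calc a ^ (i + 1) * u * (a ^ (i + 1))⁻¹ * u⁻¹
        = a * (a ^ i * u * (a ^ i)⁻¹ * u⁻¹) * u * a⁻¹ * u⁻¹ := by rw [pow_succ']; group
      _ = a * (a * u * a⁻¹ * u⁻¹) ^ i * u * a⁻¹ * u⁻¹ := by rw [ih]
      _ = (a * u * a⁻¹ * u⁻¹) ^ i * a * u * a⁻¹ * u⁻¹ := by rw [ZS_comm he L.ha]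
      _ = (a * u * a⁻¹ * u⁻¹) ^ (i + 1) := by rw [pow_succ]; group

theorem Loc.conj_mem (L : Loc S D U a) {u : Ω} (hu : u ∈ U) (i : ℕ) :
    a ^ i * u * (a ^ i)⁻¹ ∈ U := by
  have : a ^ i * u * (a ^ i)⁻¹ = (a ^ i * u * (a ^ i)⁻¹ * u⁻¹) * u := by group
  rw [this, L.pow_comm hu]
  exact U.mul_mem (L.hZU ((ZS S).pow_mem (L.hDZ (L.hcomm u hu)) i)) hu

theorem Loc.iso_conj (L : Loc S D U a) (F : FusionSystem S) (i : ℕ) :
    Iso F U U (fun y => a ^ i * y * (a ^ i)⁻¹) := by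
  have : Finite U := Helper87.finite_of_le L.hUS
  exact (mor_conj F L.hUS (S.pow_mem L.ha i)).iso_self (fun y hy => L.conj_mem hy i)

theorem Loc.comm_ne (L : Loc S D U a) {w : Ω} (hw : w ∈ U) (hwZ : w ∉ ZS S) :
    a * w * a⁻¹ * w⁻¹ ≠ 1 := by
  intro h
  apply hwZ
  apply L.hcent w hw
  calc a * w = (a * w * a⁻¹ * w⁻¹) * (w * a) := by group
    _ = w * a := by rw [h, one_mul]

theorem Loc.exists_pow (L : Loc S D U a) (hDc : Nat.card D = p) {w d : Ω} (hw : w ∈ U)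
    (hwZ : w ∉ ZS S) (hd : d ∈ D) : ∃ i : ℕ, a ^ i * w * (a ^ i)⁻¹ * w⁻¹ = d := by
  obtain ⟨i, hi⟩ := exists_pow_eq hDc (L.hcomm w hw) (L.comm_ne hw hwZ) hd
  exact ⟨i, by rw [L.pow_comm hw, hi]⟩

/-- An `F`-automorphism `k` of `U` with `k(D) ≤ Z(S)` preserves `Z(S)`. -/
theorem Loc.inactive (L : Loc S D U a) (B : Base p F D) {k : Ω → Ω} (hk : Iso F U U k)
    (hkD : ∀ d ∈ D, k d ∈ ZS S) :
    (∀ z ∈ ZS S, k z ∈ ZS S) ∧ ∀ z ∈ U, k z ∈ ZS S → z ∈ ZS S := by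
  obtain ⟨kinv, hkinv, h1, h2⟩ := hk.symm
  have hm : Mor F (ZS S) kinv := hkinv.mor.mono L.hZU
  have hiso : Iso F (ZS S) (img (ZS S) kinv) kinv := hm.iso_img
  obtain ⟨g0, hg0, -, -⟩ := hiso.symm
  have hD0B : img (ZS S) kinv ≤ U := by
    intro y hy
    obtain ⟨z, hz, rfl⟩ := (hm.mem_img y).1 hy
    exact hkinv.map_mem (L.hZU hz)
  have key : ∀ d ∈ img (ZS S) kinv, a * d * a⁻¹ = d := by
    refine Cfsg.Agent.S5274.conj_trivial B.hS B.hF hg0 le_rfl L.ha (fun d hd => ?_)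
    have he : a * d * a⁻¹ * d⁻¹ ∈ D := L.hcomm d (hD0B hd)
    have he' : a * d * a⁻¹ * d⁻¹ ∈ img (ZS S) kinv :=
      (hm.mem_img _).2 ⟨k _, hkD _ he, h1 _ (L.hZU (L.hDZ he))⟩
    have : a * d * a⁻¹ = (a * d * a⁻¹ * d⁻¹) * d := by group
    rw [this]
    exact Subgroup.mul_mem _ he' hd
  have hinvZ : ∀ z ∈ ZS S, kinv z ∈ ZS S := by
    intro z hz
    have hd : kinv z ∈ img (ZS S) kinv := (hm.mem_img _).2 ⟨z, hz, rfl⟩
    apply L.hcent _ (hD0B hd)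
    have := key _ hd
    calc a * kinv z = (a * kinv z * a⁻¹) * a := by group
      _ = kinv z * a := by rw [this]
  refine ⟨fun z hz => ?_, fun z hz hkz => ?_⟩
  · have : Finite (ZS S) := Helper87.finite_of_le ZS_le
    obtain ⟨z', hz', e⟩ := (hm.iso_self hinvZ).surj hz
    rw [← e, h2 _ (L.hZU hz')]
    exact hz'
  · rw [← h1 z hz]
    exact hinvZ _ hkz

theorem Base.map_D (B : Base p F D) {V : Subgroup Ω} {k : Ω → Ω} (hk : Mor F V k) {c : Ω}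
    (hc : c ∈ D) (hc1 : c ≠ 1) (hcV : c ∈ V) (hkc : k c ∈ ZS S) : ∀ d ∈ D, k d ∈ ZS S := by
  intro d hd
  obtain ⟨m, rfl⟩ := exists_pow_eq B.hDc hc hc1 hd
  rw [hk.map_pow hcV]
  exact (ZS S).pow_mem hkc m

theorem Loc.decomp (L : Loc S D U a) (B : Base p F D) {k : Ω → Ω} (hk : Iso F U U k) {c : Ω}
    (hc : c ∈ D) (hkc : k c ∉ ZS S) : ∀ z ∈ U, ∃ m : ℕ, k (z * c ^ m) ∈ ZS S := by
  have hcU : c ∈ U := L.hZU (L.hDZ hc)
  have hkcU : k c ∈ U := hk.map_mem hcU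
  intro z hz
  have hkzU : k z ∈ U := hk.map_mem hz
  obtain ⟨m, hm⟩ := exists_pow_eq B.hDc (L.hcomm _ hkcU) (L.comm_ne hkcU hkc)
    (D.inv_mem (L.hcomm _ hkzU))
  refine ⟨m, ?_⟩
  have e1 : k (z * c ^ m) = k z * (k c) ^ m := by
    rw [hk.mor.map_mul hz (U.pow_mem hcU m), hk.mor.map_pow hcU]
  have hb : k z * (k c) ^ m ∈ U := U.mul_mem hkzU (U.pow_mem hkcU m)
  have e2 : a * (k z * (k c) ^ m) * a⁻¹ * (k z * (k c) ^ m)⁻¹ = 1 := by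
    rw [L.comm_mul hkzU (U.pow_mem hkcU m), L.comm_pow hkcU, hm]
    group
  rw [e1]
  apply L.hcent _ hb
  calc a * (k z * (k c) ^ m)
      = (a * (k z * (k c) ^ m) * a⁻¹ * (k z * (k c) ^ m)⁻¹) * ((k z * (k c) ^ m) * a) := by group
    _ = (k z * (k c) ^ m) * a := by rw [e2, one_mul]

theorem Loc.inv_active (L : Loc S D U a) (B : Base p F D) {k h : Ω → Ω} (hk : Iso F U U k)
    (hh : Iso F U U h) (hhk : ∀ x ∈ U, h (k x) = x) {c : Ω} (hc : c ∈ D) (hc1 : c ≠ 1)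
    (hkc : k c ∉ ZS S) : h c ∉ ZS S := by
  intro hhc
  have hcU : c ∈ U := L.hZU (L.hDZ hc)
  have h1 := (L.inactive B hh (B.map_D hh.mor hc hc1 hcU hhc)).2
  apply hkc
  apply h1 _ (hk.map_mem hcU)
  rw [hhk c hcU]
  exact L.hDZ hc

/-- The "central involution" `τ` of the `SL₂(p)` generated by two conjugates of `⟨c_a⟩`. -/
theorem Loc.tau (L : Loc S D U a) (B : Base p F D) {k : Ω → Ω} (hk : Iso F U U k) {c : Ω}
    (hc : c ∈ D) (hc1 : c ≠ 1) (hkc : k c ∉ ZS S) :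
    ∃ τ, Iso F U U τ ∧ τ c = c⁻¹ ∧ ∀ y ∈ ZS S, k y ∈ ZS S → τ y = y := by
  obtain ⟨h, hh, hhk, hkh⟩ := hk.symm
  have hhc := L.inv_active B hk hh hhk hc hc1 hkc
  have hUS := L.hUS
  have hcZ := L.hDZ hc
  have hcU : c ∈ U := L.hZU hcZ
  have hkcU : k c ∈ U := hk.map_mem hcU
  have hhcU : h c ∈ U := hh.map_mem hcU
  obtain ⟨i, hi⟩ := L.exists_pow B.hDc hhcU hhc hc
  obtain ⟨j, hj⟩ := L.exists_pow B.hDc hkcU hkc (D.inv_mem hc)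
  have hg₁ : a ^ i ∈ S := S.pow_mem L.ha i
  have hg₂ : a ^ j ∈ S := S.pow_mem L.ha j
  have isoa := L.iso_conj F i
  have isoc := L.iso_conj F j
  generalize a ^ i = g₁ at hi hg₁ isoa
  generalize a ^ j = g₂ at hj hg₂ isoc
  have isob := (hk.trans isoc).trans hh
  set α : Ω → Ω := fun y => g₁ * y * g₁⁻¹ with hα
  set b : Ω → Ω := h ∘ ((fun y => g₂ * y * g₂⁻¹) ∘ k) with hb
  have isow := (isoa.trans isob).trans isoa
  set w : Ω → Ω := α ∘ (b ∘ α) with hw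
  have ac : α c = c := conj_ZS hg₁ hcZ
  have ac' : α (h c) = c * h c := by
    show g₁ * h c * g₁⁻¹ = c * h c
    calc g₁ * h c * g₁⁻¹ = (g₁ * h c * g₁⁻¹ * (h c)⁻¹) * h c := by group
      _ = c * h c := by rw [hi]
  have bc : b c = (h c)⁻¹ * c := by
    show h (g₂ * k c * g₂⁻¹) = (h c)⁻¹ * c
    have : g₂ * k c * g₂⁻¹ = c⁻¹ * k c := by
      rw [← hj]
      group
    rw [this, hh.mor.map_mul (U.inv_mem hcU) hkcU, hh.mor.map_inv hcU, hhk c hcU]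
  have bc' : b (h c) = h c := by
    show h (g₂ * k (h c) * g₂⁻¹) = h c
    rw [hkh c hcU, conj_ZS hg₂ hcZ]
  have wc : w c = (h c)⁻¹ := by
    show α (b (α c)) = (h c)⁻¹
    rw [ac, bc, isoa.mor.map_mul (U.inv_mem hhcU) hcU, isoa.mor.map_inv hhcU, ac', ac]
    group
  have wc' : w (h c) = c := by
    show α (b (α (h c))) = c
    rw [ac', isob.mor.map_mul hcU hhcU, bc, bc']
    have : (h c)⁻¹ * c * h c = c := by
      rw [mul_assoc, ← ZS_comm hcZ (hUS hhcU)]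
      group
    rw [this, ac]
  refine ⟨w ∘ w, isow.trans isow, ?_, fun y hy hky => ?_⟩
  · show w (w c) = c⁻¹
    rw [wc, isow.mor.map_inv hhcU, wc']
  · have ay : α y = y := conj_ZS hg₁ hy
    have by' : b y = y := by
      show h (g₂ * k y * g₂⁻¹) = y
      rw [conj_ZS hg₂ hky, hhk y (L.hZU hy)]
    have wy : w y = y := by
      show α (b (α y)) = y
      rw [ay, by', ay]
    show w (w y) = y
    rw [wy, wy]

/-- `Aut_F(Z(S))` has no nontrivial `p`-elements. -/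
theorem Base.paut_trivial (H : Base p F D) {δ : Ω → Ω} (hδ : Iso F (ZS S) (ZS S) δ)
    (h1 : ∀ d ∈ D, δ d = d) (h2 : ∀ z ∈ ZS S, z⁻¹ * δ z ∈ D) : ∀ z ∈ ZS S, δ z = z := by
  obtain ⟨α, hα, e⟩ := hδ.exists_aut
  have hfa := fullyNormalized_fullyAutomized H.hS H.hF
    (Cfsg.Agent.S5274.fullyNormalized_of_central F (le_refl (ZS S)))
  have hpow : α ^ p = 1 := by
    ext x
    have hc : ((x⁻¹ * α x : ZS S) : Ω) ∈ D := by
      have := h2 x x.2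
      rw [← e] at this
      exact this
    have hfix : α (x⁻¹ * α x) = x⁻¹ * α x := by
      apply Subtype.ext
      rw [e]
      exact h1 _ hc
    have h3 := Cfsg.Agent.Lib.Helper89.pow_apply_of_fixed α x (x⁻¹ * α x) (by group) hfix p
    rw [h3]
    have h4 : (x⁻¹ * α x) ^ p = 1 := by
      apply Subtype.ext
      exact pow_card_D H.hDc hc
    rw [h4, mul_one]
    rfl
  have hAp : IsPGroup p (Subgroup.zpowers α) := by
    rintro ⟨g, hg⟩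
    obtain ⟨k, rfl⟩ := Subgroup.mem_zpowers_iff.1 hg
    refine ⟨1, Subtype.ext ?_⟩
    show (α ^ k) ^ (p ^ 1) = 1
    rw [pow_one, ← zpow_natCast, ← zpow_mul, mul_comm, zpow_mul, zpow_natCast, hpow, one_zpow]
  obtain ⟨f, hf, hA⟩ := exists_iso_conj_into hfa (Iso.refl F ZS_le) (Subgroup.zpowers α)
    (by rw [Subgroup.zpowers_le]; exact hα) hAp
  intro z hz
  obtain ⟨k, hk, hk'⟩ := hA α (Subgroup.mem_zpowers α)
  have h5 := hk' ⟨z, hz⟩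
  rw [e] at h5
  change f (δ z) = k * f z * k⁻¹ at h5
  rw [conj_ZS hk (hf.map_mem hz)] at h5
  exact hf.mor.inj (hδ.map_mem hz) hz h5

/-- The restriction of `τ` to the centre. -/
theorem Loc.tau_ZS (L : Loc S D U a) (B : Base p F D) {k : Ω → Ω} (hk : Iso F U U k) {c : Ω}
    (hc : c ∈ D) (hc1 : c ≠ 1) (hkc : k c ∉ ZS S) :
    ∃ τ, Mor F (ZS S) τ ∧ (∀ d ∈ D, τ d = d⁻¹) ∧ (∀ z ∈ ZS S, z⁻¹ * τ z ∈ D) ∧
      ∀ y ∈ ZS S, k y ∈ ZS S → τ y = y := by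
  obtain ⟨τ, hτ, hτc, hτy⟩ := L.tau B hk hc hc1 hkc
  have hcU : c ∈ U := L.hZU (L.hDZ hc)
  refine ⟨τ, hτ.mor.mono L.hZU, fun d hd => ?_, fun z hz => ?_, hτy⟩
  · obtain ⟨m, rfl⟩ := exists_pow_eq B.hDc hc hc1 hd
    rw [hτ.mor.map_pow hcU, hτc, inv_pow]
  · obtain ⟨m, hm⟩ := L.decomp B hk hc hkc z (L.hZU hz)
    have h1 := hτy _ ((ZS S).mul_mem hz ((ZS S).pow_mem (L.hDZ hc) m)) hm
    rw [hτ.mor.map_mul (L.hZU hz) (U.pow_mem hcU m), hτ.mor.map_pow hcU, hτc] at h1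
    have h2 : z⁻¹ * τ z = c ^ m * c ^ m := by
      have : τ z = z * c ^ m * ((c⁻¹) ^ m)⁻¹ := by rw [← h1]; group
      rw [this, inv_pow]
      group
    rw [h2]
    exact D.mul_mem (D.pow_mem hc m) (D.pow_mem hc m)

theorem Base.uniq (H : Base p F D) {f₁ f₂ : Ω → Ω} (h₁ : Mor F (ZS S) f₁) (h₂ : Mor F (ZS S) f₂)
    (e₁ : ∀ d ∈ D, f₁ d = d⁻¹) (e₂ : ∀ d ∈ D, f₂ d = d⁻¹) (m₁ : ∀ z ∈ ZS S, z⁻¹ * f₁ z ∈ D)
    (m₂ : ∀ z ∈ ZS S, z⁻¹ * f₂ z ∈ D) : ∀ z ∈ ZS S, f₁ z = f₂ z := by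
  have : Finite (ZS S) := Helper87.finite_of_le ZS_le
  have hmem : ∀ {f : Ω → Ω}, (∀ z ∈ ZS S, z⁻¹ * f z ∈ D) → ∀ z ∈ ZS S, f z ∈ ZS S := by
    intro f hf z hz
    have : f z = z * (z⁻¹ * f z) := by group
    rw [this]
    exact (ZS S).mul_mem hz (H.hDZ (hf z hz))
  have i₁ := h₁.iso_self (hmem m₁)
  have i₂ := h₂.iso_self (hmem m₂)
  obtain ⟨g, hg, hgf, hfg⟩ := i₁.symm
  have hgd : ∀ d ∈ D, g d = d⁻¹ := by
    intro d hd
    have h3 := hgf d⁻¹ (H.hDZ (D.inv_mem hd))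
    rw [e₁ _ (D.inv_mem hd), inv_inv] at h3
    exact h3
  have hgz : ∀ z ∈ ZS S, z⁻¹ * g z ∈ D := by
    intro z hz
    have h3 := m₁ (g z) (hg.map_mem hz)
    rw [hfg z hz] at h3
    have : z⁻¹ * g z = ((g z)⁻¹ * z)⁻¹ := by group
    rw [this]
    exact D.inv_mem h3
  have key := H.paut_trivial (i₂.trans hg) (fun d hd => ?_) (fun z hz => ?_)
  · intro z hz
    have h3 := key z hz
    change g (f₂ z) = z at h3
    rw [← hfg _ (i₂.map_mem hz), h3]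
  · show g (f₂ d) = d
    rw [e₂ d hd, hgd _ (D.inv_mem hd), inv_inv]
  · show z⁻¹ * g (f₂ z) ∈ D
    have : z⁻¹ * g (f₂ z) = (z⁻¹ * f₂ z) * ((f₂ z)⁻¹ * g (f₂ z)) := by group
    rw [this]
    exact D.mul_mem (m₂ z hz) (hgz _ (i₂.map_mem hz))

end Cfsg.Agent.Lib.Helper16.AI
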