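import Cfsg.Agent.Lib.Helper16.CIFusion
import Cfsg.Agent.Lib.Helper86.StronglyEmbedded

set_option autoImplicit false
set_option linter.unusedSectionVars false

/-! The part of `Z(S)` which stays in `Z(S)` under the automorphisms of the fully normalized
subgroups containing their centralizer: it is strongly closed in any saturated fusion system. -/

namespace Cfsg.Agent.Lib.Helper16.AI

open Cfsg Cfsg.FusionSystem Cfsg.Agent.Lib.Helper87 Cfsg.Agent.Lib.Helper16.CenterIndex
open Cfsg.Agent.Lib.Helper16.CIFusion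

variable {Ω : Type*} [Group Ω] {S : Subgroup Ω}

/-- Fully normalized subgroups containing their centralizer in `S`. -/
def Good (F : FusionSystem S) (U : Subgroup Ω) : Prop :=
  F.IsFullyNormalized U ∧ centralizerIn S U ≤ U

theorem Good.le {F : FusionSystem S} {U : Subgroup Ω} (h : Good F U) : U ≤ S := h.1.1

theorem Good.ZS_le {F : FusionSystem S} {U : Subgroup Ω} (h : Good F U) : ZS S ≤ U := by
  intro z hz
  apply h.2
  rw [mem_centralizerIn_iff]
  exact ⟨CenterIndex.ZS_le hz, fun x hx => ZS_comm hz (h.le hx)⟩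

def Y1 (F : FusionSystem S) : Subgroup Ω where
  carrier := {z | z ∈ ZS S ∧ ∀ (U : Subgroup Ω) (h : Ω → Ω), Good F U → Iso F U U h → h z ∈ ZS S}
  mul_mem' := by
    rintro a b ⟨ha, ha'⟩ ⟨hb, hb'⟩
    refine ⟨(ZS S).mul_mem ha hb, fun U h hU hh => ?_⟩
    rw [hh.mor.map_mul (hU.ZS_le ha) (hU.ZS_le hb)]
    exact (ZS S).mul_mem (ha' U h hU hh) (hb' U h hU hh)
  one_mem' := ⟨(ZS S).one_mem, fun U h _ hh => by rw [hh.mor.map_one]; exact (ZS S).one_mem⟩
  inv_mem' := by
    rintro a ⟨ha, ha'⟩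
    refine ⟨(ZS S).inv_mem ha, fun U h hU hh => ?_⟩
    rw [hh.mor.map_inv (hU.ZS_le ha)]
    exact (ZS S).inv_mem (ha' U h hU hh)

theorem mem_Y1 {F : FusionSystem S} {z : Ω} : z ∈ Y1 F ↔ z ∈ ZS S ∧
    ∀ (U : Subgroup Ω) (h : Ω → Ω), Good F U → Iso F U U h → h z ∈ ZS S := Iff.rfl

variable [Finite S]

/-- The image of a good subgroup under an automorphism of `S` is good. -/
theorem Good.img {F : FusionSystem S} {U : Subgroup Ω} (hU : Good F U) {f g : Ω → Ω}
    (hf : Iso F S S f) (hg : Iso F S S g) (hgf : ∀ x ∈ S, g (f x) = x) (hfg : ∀ x ∈ S, f (g x) = x) :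
    Good F (img U f) := by
  have hUS := hU.le
  have hm : Mor F U f := hf.mor.mono hUS
  have iso1 : Iso F U (Helper87.img U f) f := hm.iso_img
  refine ⟨⟨hm.img_le, fun Q hQ => ?_⟩, ?_⟩
  · have h1 := hU.1.2 Q (isConj_trans iso1.isConj hQ)
    refine h1.trans ?_
    have hmN : Mor F (normalizerIn S U) f := hf.mor.mono inf_le_left
    rw [hmN.iso_img.card_eq]
    have : Finite (normalizerIn S (Helper87.img U f)) := Helper87.finite_of_le inf_le_left
    apply Subgroup.card_le_of_le
    intro y hy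
    obtain ⟨n, hn, rfl⟩ := (hmN.mem_img y).1 hy
    have hnS : n ∈ S := hn.1
    refine ⟨hf.map_mem hnS, ?_⟩
    have : Finite (Helper87.img U f) := Helper87.finite_of_le hm.img_le
    apply Cfsg.Agent.Lib.Helper86.mem_normalizer_of_forall_conj_mem
    intro w hw
    obtain ⟨u, hu, rfl⟩ := (hm.mem_img w).1 hw
    rw [← hf.mor.map_inv hnS, ← hf.mor.map_mul hnS (hUS hu),
      ← hf.mor.map_mul (S.mul_mem hnS (hUS hu)) (S.inv_mem hnS)]
    refine (hm.mem_img _).2 ⟨n * u * n⁻¹, ?_, rfl⟩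
    exact (Subgroup.mem_normalizer_iff.1 hn.2 u).1 hu
  · intro y hy
    rw [mem_centralizerIn_iff] at hy
    have hgy : g y ∈ U := by
      apply hU.2
      rw [mem_centralizerIn_iff]
      refine ⟨hg.map_mem hy.1, fun u hu => ?_⟩
      have h2 := hy.2 (f u) ((hm.mem_img _).2 ⟨u, hu, rfl⟩)
      have h3 := congrArg g h2
      rw [hg.mor.map_mul (hf.map_mem (hUS hu)) hy.1, hg.mor.map_mul hy.1 (hf.map_mem (hUS hu)),
        hgf u (hUS hu)] at h3
      exact h3
    exact (hm.mem_img _).2 ⟨g y, hgy, hfg y hy.1⟩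

theorem aut_Y1 {F : FusionSystem S} {f : Ω → Ω} (hf : Iso F S S f) {x : Ω} (hx : x ∈ Y1 F) :
    f x ∈ Y1 F := by
  obtain ⟨finv, hfinv, h1, h2⟩ := hf.symm
  refine ⟨aut_ZS hf hx.1, fun B h hB hh => ?_⟩
  have hBS := hh.le
  have hm : Mor F B finv := hfinv.mor.mono hBS
  have iso1 : Iso F B (Helper87.img B finv) finv := hm.iso_img
  have iso2 : Iso F (Helper87.img B finv) B f := by
    refine ⟨hf.mor.mono hm.img_le, fun y => ⟨fun hy => ?_, ?_⟩⟩
    · exact ⟨finv y, (hm.mem_img _).2 ⟨y, hy, rfl⟩, h2 y (hBS hy)⟩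
    · rintro ⟨w, hw, rfl⟩
      obtain ⟨y, hy, rfl⟩ := (hm.mem_img _).1 hw
      rw [h2 y (hBS hy)]
      exact hy
  have h3 := hx.2 _ _ (hB.img hfinv hf h2 h1) ((iso2.trans hh).trans iso1)
  have h4 := aut_ZS hf h3
  have h5 : f ((finv ∘ (h ∘ f)) x) = h (f x) :=
    h2 _ (hBS (hh.map_mem (hB.ZS_le (aut_ZS hf hx.1))))
  rw [h5] at h4
  exact h4

variable {p : ℕ} [hp : Fact p.Prime]

theorem Y1_stronglyClosed (hS : IsPGroup p S) {F : FusionSystem S} (hF : F.IsSaturated p) :
    F.StronglyClosed (Y1 F) := by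
  have main := alperin_induction hS hF (fun P f => ∀ x ∈ P, (x ∈ Y1 F ↔ f x ∈ Y1 F)) ?_ ?_ ?_ ?_ ?_
  · rw [stronglyClosed_iff]
    exact ⟨fun z hz => CenterIndex.ZS_le hz.1, fun R f hf x hx hxY => (main R f hf x hx).1 hxY⟩
  · intro P f g h e x hx
    rw [← e x hx]
    exact h x hx
  · intro P R f _ h hR x hx
    exact h x (hR hx)
  · intro P Q f g _ _ h h' hPQ x hx
    exact (h x hx).trans (h' _ (hPQ x hx))
  · intro P Q f g hf _ hgf h y hy
    obtain ⟨x, hx, rfl⟩ := hf.surj hy
    rw [hgf x hx]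
    exact (h x hx).symm
  · intro U hU
    have hUS := hU.1
    by_cases h1 : centralizerIn S U ≤ U
    · have hgood : Good F U := ⟨hU, h1⟩
      by_cases h2 : U = S
      · subst h2
        left
        intro α hα x hx
        have hf := iso_autFun ((mem_autGroup_iff F le_rfl α).1 hα)
        refine ⟨aut_Y1 hf, fun h => ?_⟩
        obtain ⟨finv, hfinv, e1, -⟩ := hf.symm
        rw [← e1 x hx]
        exact aut_Y1 hfinv h
      · right
        have hUlt : U < S := lt_of_le_of_ne hUS h2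
        obtain ⟨s, hs, hsN, hsU⟩ := Cfsg.Agent.Lib.Helper86.exists_normalizer_growth hS hUlt
        refine ⟨coreIn (F.autGroup U) (fixJ U (Y1 F)), coreIn_le _ _, coreIn_conj _ _, ?_, s, ?_, hsU⟩
        · intro κ hκ x hx
          have hκ' := coreIn_le' _ _ hκ
          rw [autFun_apply κ hx]
          constructor
          · intro hxY
            rw [hκ' ⟨x, hx⟩ hxY]
            exact hxY
          · intro hy
            have e1 := hκ' _ hy
            have e2 : κ ⟨x, hx⟩ = ⟨x, hx⟩ := κ.injective e1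
            rw [e2] at hy
            exact hy
        · have hκ := (conjToAut S U ⟨s, hs, hsN⟩).2
          refine ⟨hs, _, ⟨autInducedBy_le_autGroup F hUS hκ, fun h hh y hy => ?_⟩, fun x => ?_⟩
          · have hh' : Iso F U U (autFun h⁻¹) :=
              iso_autFun ((mem_autGroup_iff F hUS h⁻¹).1 (Subgroup.inv_mem _ hh))
            have hw : ((h⁻¹ y : U) : Ω) ∈ ZS S := by
              rw [← autFun_coe]
              exact hy.2 U _ hgood hh'
            have hκw : (conjToAut S U ⟨s, hs, hsN⟩ : MulAut U) (h⁻¹ y) = h⁻¹ y := by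
              apply Subtype.ext
              rw [conjToAut_apply]
              show s * ((h⁻¹ y : U) : Ω) * s⁻¹ = _
              rw [ZS_comm hw hs]
              group
            show h ((conjToAut S U ⟨s, hs, hsN⟩ : MulAut U) (h⁻¹ y)) = y
            rw [hκw]
            exact MulAut.apply_inv_self _ h y
          · rw [conjToAut_apply]
    · right
      obtain ⟨g, hg, hgU⟩ := SetLike.not_le_iff_exists.1 h1
      refine ⟨⊥, bot_le, ?_, ?_, g, ?_, hgU⟩
      · intro α _ κ hκ
        rw [Subgroup.mem_bot] at hκ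
        subst hκ
        simp
      · intro κ hκ x hx
        rw [Subgroup.mem_bot] at hκ
        subst hκ
        rw [autFun_apply _ hx]
        rfl
      · rw [mem_centralizerIn_iff] at hg
        refine ⟨hg.1, 1, Subgroup.one_mem _, fun x => ?_⟩
        rw [← hg.2 x x.2]
        simp

theorem Y1_eq_bot (hS : IsPGroup p S) {F : FusionSystem S} (hF : F.IsSaturated p)
    (hcore : F.core = ⊥) : Y1 F = ⊥ := by
  have hab : IsMulCommutative (Y1 F) :=
    ⟨⟨fun a b => Subtype.ext (ZS_comm b.2.1 (CenterIndex.ZS_le a.2.1))⟩⟩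
  have hn := Cfsg.Agent.Lib.Helper86.isNormal_of_abelian_stronglyClosed hS F hF hab
    (Y1_stronglyClosed hS hF)
  rw [eq_bot_iff, ← hcore]
  exact le_sSup hn


end Cfsg.Agent.Lib.Helper16.AI
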