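import Cfsg.Agent.Lib.Helper16.AI.Basic
import Cfsg.Agent.Lib.Helper16.AI.Y1
import Cfsg.Agent.Lib.Helper16.AI.Loc
import Cfsg.Agent.Lib.Helper86.FusionEssential

set_option autoImplicit false
set_option linter.unusedSectionVars false

/-! Saturated fusion systems with trivial core over a nonabelian `p`-group with an abelian
subgroup `A` of index `p` which is not essential. -/

namespace Cfsg.Agent.Lib.Helper16.AI

open Cfsg Cfsg.FusionSystem Cfsg.Agent.Lib.Helper87 Cfsg.Agent.Lib.Helper16.CenterIndex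
open Cfsg.Agent.Lib.Helper16.CIFusion

variable {Ω : Type*} [Group Ω] {S A : Subgroup Ω} [Finite S] {p : ℕ} [hp : Fact p.Prime]

structure Glob (p : ℕ) (F : FusionSystem S) (A : Subgroup Ω) : Prop where
  X : AData p S A
  hF : F.IsSaturated p
  hcore : F.core = ⊥
  hAe : ¬ F.IsEssential p A

variable {F : FusionSystem S}

theorem aut_ZS_iff {f : Ω → Ω} (hf : Iso F S S f) {x : Ω} (hx : x ∈ S) :
    x ∈ ZS S ↔ f x ∈ ZS S := by
  refine ⟨aut_ZS hf, fun h => ?_⟩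
  obtain ⟨g, hg, e1, -⟩ := hf.symm
  rw [← e1 x hx]
  exact aut_ZS hg h

theorem AData.fullyNormalized (X : AData p S A) (F : FusionSystem S) : F.IsFullyNormalized A := by
  refine ⟨X.hAS, fun Q _ => ?_⟩
  have : normalizerIn S A = S := by
    apply le_antisymm inf_le_left
    intro g hg
    have : Finite A := Helper87.finite_of_le X.hAS
    exact ⟨hg, Cfsg.Agent.Lib.Helper86.mem_normalizer_of_forall_conj_mem
      (fun a ha => X.conj_mem hg ha)⟩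
  rw [this]
  exact card_le_of_le' le_rfl inf_le_left

/-- As `A` is not essential, its `F`-automorphisms preserve the centre of `S`. -/
theorem Glob.autA (G : Glob p F A) {h : Ω → Ω} (hh : Iso F A A h) :
    ∀ z ∈ A, (z ∈ ZS S ↔ h z ∈ ZS S) := by
  have X := G.X
  obtain ⟨α, hα, e⟩ := hh.exists_aut
  have hcl : Subgroup.closure (Cfsg.Agent.Lib.Helper86.extGens F A) = F.autGroup A := by
    rcases Cfsg.Agent.Lib.Helper86.extendable_dichotomy X.hS F G.hF X.lt (X.fullyNormalized F) with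
      h1 | h1
    · exact h1.2
    · exact absurd h1.1 G.hAe
  rw [← hcl] at hα
  have key : ∀ β ∈ Subgroup.closure (Cfsg.Agent.Lib.Helper86.extGens F A),
      ∀ x : A, ((x : Ω) ∈ ZS S ↔ ((β x : A) : Ω) ∈ ZS S) := by
    intro β hβ
    induction hβ using Subgroup.closure_induction with
    | mem β hβ =>
      obtain ⟨Q, hAQ, φ, hφ, e'⟩ := hβ
      have hQS : Q ≤ S := (F.le_of_mem hφ).1
      have hQ : Q = S := X.eq_of_lt hAQ hQS
      subst hQ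
      have hm : Mor F Q (ext φ) := Mor.of_hom hφ
      have hiso : Iso F Q Q (ext φ) := hm.iso_self (fun x hx => hm.mem hx)
      intro x
      rw [← e' x, ← ext_coe φ]
      exact aut_ZS_iff hiso (X.hAS x.2)
    | one => intro x; rfl
    | mul β γ _ _ hβ hγ =>
      intro x
      rw [MulAut.mul_apply]
      exact (hγ x).trans (hβ _)
    | inv β _ hβ =>
      intro x
      have := hβ (β⁻¹ x)
      rw [MulAut.apply_inv_self] at this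
      exact this.symm
  intro z hz
  rw [← e ⟨z, hz⟩]
  exact key α hα ⟨z, hz⟩

/-- The shape of a subgroup containing its centralizer some automorphism of which moves the
centre of `S`. -/
theorem Glob.classify (G : Glob p F A) {U : Subgroup Ω} (hU : centralizerIn S U ≤ U) {h : Ω → Ω}
    (hh : Iso F U U h) {z : Ω} (hz : z ∈ ZS S) (hhz : h z ∉ ZS S) :
    (∀ u ∈ U, ∀ v ∈ U, u * v = v * u) ∧ (∃ x ∈ U, x ∉ A) ∧ ∀ u ∈ U, u ∈ A → u ∈ ZS S := by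
  have X := G.X
  have hUS := hh.le
  have hZU : ZS S ≤ U := by
    intro w hw
    apply hU
    rw [mem_centralizerIn_iff]
    exact ⟨ZS_le hw, fun x hx => ZS_comm hw (hUS hx)⟩
  have hnle : ¬ U ≤ A := by
    intro hle
    have hAU : A ≤ U := by
      intro a ha
      apply hU
      rw [mem_centralizerIn_iff]
      exact ⟨X.hAS ha, fun x hx => X.hab x (hle hx) a ha⟩
    have : U = A := le_antisymm hle hAU
    subst this
    exact hhz ((G.autA hh z (hZU hz)).1 hz)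
  obtain ⟨x, hx, hxA⟩ := SetLike.not_le_iff_exists.1 hnle
  have hw : h z ∈ U := hh.map_mem (hZU hz)
  have hwc : ∀ u ∈ U, u * h z = h z * u := by
    intro u hu
    obtain ⟨u', hu', rfl⟩ := hh.surj hu
    rw [← hh.mor.map_mul hu' (hZU hz), ← hh.mor.map_mul (hZU hz) hu', ZS_comm hz (hUS hu')]
  have hwA : h z ∉ A := by
    intro hwA
    exact hhz (X.mem_ZS (hUS hx) hxA hwA (hwc x hx).symm)
  have hab : ∀ u ∈ U, ∀ v ∈ U, u * v = v * u := by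
    intro u hu v hv
    obtain ⟨z₁, hz₁, i, rfl⟩ := X.cent (hUS hw) hwA (hUS hu) (hwc u hu)
    obtain ⟨z₂, hz₂, j, rfl⟩ := X.cent (hUS hw) hwA (hUS hv) (hwc v hv)
    have hwi : h z ^ i ∈ S := S.pow_mem (hUS hw) i
    have hwj : h z ^ j ∈ S := S.pow_mem (hUS hw) j
    calc z₁ * h z ^ i * (z₂ * h z ^ j) = z₁ * (h z ^ i * z₂) * h z ^ j := by group
      _ = z₁ * (z₂ * h z ^ i) * h z ^ j := by rw [ZS_comm hz₂ hwi]
      _ = (z₁ * z₂) * (h z ^ i * h z ^ j) := by group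
      _ = (z₂ * z₁) * (h z ^ j * h z ^ i) := by
          rw [ZS_comm hz₂ (ZS_le hz₁), ← pow_add, ← pow_add, add_comm]
      _ = z₂ * (z₁ * h z ^ j) * h z ^ i := by group
      _ = z₂ * (h z ^ j * z₁) * h z ^ i := by rw [ZS_comm hz₁ hwj]
      _ = z₂ * h z ^ j * (z₁ * h z ^ i) := by group
  exact ⟨hab, ⟨x, hx, hxA⟩, fun u hu huA => X.mem_ZS (hUS hx) hxA huA (hab u hu x hx)⟩

/-- `[a, a' x ^ i] = [a, x] ^ i` for `a, a' ∈ A` when `[a, x]` is central. -/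
theorem AData.comm_decomp (X : AData p S A) {x a a' : Ω} (hx : x ∈ S) (ha : a ∈ A)
    (he : a * x * a⁻¹ * x⁻¹ ∈ ZS S) (ha' : a' ∈ A) (i : ℕ) :
    a * (a' * x ^ i) * a⁻¹ * (a' * x ^ i)⁻¹ = (a * x * a⁻¹ * x⁻¹) ^ i := by
  have h1 : ∀ i : ℕ, a * x ^ i * a⁻¹ * (x ^ i)⁻¹ = (a * x * a⁻¹ * x⁻¹) ^ i := by
    intro i
    induction i with
    | zero => simp
    | succ i ih =>
      calc a * x ^ (i + 1) * a⁻¹ * (x ^ (i + 1))⁻¹
          = (a * x ^ i * a⁻¹ * (x ^ i)⁻¹) * (x ^ i * (a * x * a⁻¹ * x⁻¹)) * (x ^ i)⁻¹ := by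
            rw [pow_succ]; group
        _ = (a * x ^ i * a⁻¹ * (x ^ i)⁻¹) * ((a * x * a⁻¹ * x⁻¹) * x ^ i) * (x ^ i)⁻¹ := by
            rw [ZS_comm he (S.pow_mem hx i)]
        _ = (a * x * a⁻¹ * x⁻¹) ^ (i + 1) := by rw [ih, pow_succ]; group
  have h2 : (a * x * a⁻¹ * x⁻¹) ^ i ∈ ZS S := (ZS S).pow_mem he i
  calc a * (a' * x ^ i) * a⁻¹ * (a' * x ^ i)⁻¹
      = (a * a') * x ^ i * a⁻¹ * (x ^ i)⁻¹ * a'⁻¹ := by group
    _ = (a' * a) * x ^ i * a⁻¹ * (x ^ i)⁻¹ * a'⁻¹ := by rw [X.hab a ha a' ha']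
    _ = a' * (a * x ^ i * a⁻¹ * (x ^ i)⁻¹) * a'⁻¹ := by group
    _ = a' * (a * x * a⁻¹ * x⁻¹) ^ i * a'⁻¹ := by rw [h1]
    _ = (a * x * a⁻¹ * x⁻¹) ^ i := by rw [ZS_comm h2 (X.hAS ha')]; group

/-- The abelian subgroups `U = Z(S)⟨x⟩`, `x ∉ A`. -/
structure HType (S A U : Subgroup Ω) : Prop where
  hZU : ZS S ≤ U
  hUS : U ≤ S
  hab : ∀ u ∈ U, ∀ v ∈ U, u * v = v * u
  hx : ∃ x ∈ U, x ∉ A
  hUA : ∀ u ∈ U, u ∈ A → u ∈ ZS S

theorem HType.lt {U : Subgroup Ω} (T : HType S A U) (X : AData p S A) : U < S := by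
  refine lt_of_le_of_ne T.hUS (fun h => ?_)
  obtain ⟨x, hx, y, hy, hne⟩ := X.hna
  exact hne (T.hab x (h ▸ hx) y (h ▸ hy))

/-- Elements of `S` outside `U` centralize only `Z(S)` in `U`. -/
theorem HType.cent_out {U : Subgroup Ω} (T : HType S A U) (X : AData p S A) {y u : Ω} (hy : y ∈ S)
    (hyU : y ∉ U) (hu : u ∈ U) (hc : y * u = u * y) : u ∈ ZS S := by
  by_cases huA : u ∈ A
  · exact T.hUA u hu huA
  · exfalso
    obtain ⟨z, hz, i, rfl⟩ := X.cent (T.hUS hu) huA hy hc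
    exact hyU (U.mul_mem (T.hZU hz) (U.pow_mem hu i))

theorem HType.exists_a {U : Subgroup Ω} (T : HType S A U) (X : AData p S A) :
    ∃ a ∈ A, a ∉ U ∧ ∀ u ∈ U, a * u * a⁻¹ * u⁻¹ ∈ ZS S := by
  obtain ⟨x, hx, hxA⟩ := T.hx
  obtain ⟨g, hg, hgN, hgU⟩ := Cfsg.Agent.Lib.Helper86.exists_normalizer_growth X.hS (T.lt X)
  obtain ⟨a, ha, i, rfl⟩ := X.decomp (T.hUS hx) hxA hg
  have hxi : x ^ i ∈ U := U.pow_mem hx i
  refine ⟨a, ha, fun haU => hgU (U.mul_mem haU hxi), fun u hu => ?_⟩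
  have h1 : a * u * a⁻¹ ∈ U := by
    have h2 := (Subgroup.mem_normalizer_iff.1 hgN u).1 hu
    have h3 : a * x ^ i * u * (a * x ^ i)⁻¹ = a * (x ^ i * u * (x ^ i)⁻¹) * a⁻¹ := by group
    have h4 : x ^ i * u * (x ^ i)⁻¹ = u := by
      rw [T.hab _ hxi u hu]
      group
    rwa [h3, h4] at h2
  apply T.hUA _ (U.mul_mem h1 (U.inv_mem hu))
  have h5 : a * u * a⁻¹ * u⁻¹ = a * (u * a⁻¹ * u⁻¹) := by group
  rw [h5]
  exact A.mul_mem ha (X.conj_mem (T.hUS hu) (A.inv_mem ha))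

theorem HType.mkLoc {U D : Subgroup Ω} (T : HType S A U) (X : AData p S A) (hDZ : D ≤ ZS S) {a : Ω}
    (ha : a ∈ A) (haU : a ∉ U) (hD : ∀ u ∈ U, a * u * a⁻¹ * u⁻¹ ∈ D) : Loc S D U a :=
  ⟨hDZ, T.hZU, T.hUS, T.hab, X.hAS ha, hD, fun _ hu hc => T.cent_out X (X.hAS ha) haU hu hc⟩

theorem HType.eq_sup {U : Subgroup Ω} (T : HType S A U) (X : AData p S A) {x : Ω} (hx : x ∈ U)
    (hxA : x ∉ A) : U = ZS S ⊔ Subgroup.zpowers x := by
  apply le_antisymm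
  · intro u hu
    obtain ⟨a, ha, i, rfl⟩ := X.decomp (T.hUS hx) hxA (T.hUS hu)
    have haU : a ∈ U := by
      have : a = a * x ^ i * (x ^ i)⁻¹ := by group
      rw [this]
      exact U.mul_mem hu (U.inv_mem (U.pow_mem hx i))
    exact Subgroup.mul_mem _ ((le_sup_left : ZS S ≤ _) (T.hUA a haU ha))
      ((le_sup_right : Subgroup.zpowers x ≤ _) (Subgroup.pow_mem _ (Subgroup.mem_zpowers x) i))
  · exact sup_le T.hZU (by rw [Subgroup.zpowers_le]; exact hx)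

/-- A first subgroup with an automorphism moving the centre, with the data attached to it. -/
structure Act (p : ℕ) (F : FusionSystem S) (A D U₁ : Subgroup Ω) (k₁ : Ω → Ω) (x₁ a₁ c₁ : Ω) :
    Prop where
  G : Glob p F A
  B : Base p F D
  T : HType S A U₁
  L : Loc S D U₁ a₁
  good : Good F U₁
  hk : Iso F U₁ U₁ k₁
  hx : x₁ ∈ U₁
  hxA : x₁ ∉ A
  ha : a₁ ∈ A
  hc : c₁ = a₁ * x₁ * a₁⁻¹ * x₁⁻¹
  hcD : c₁ ∈ D
  hc1 : c₁ ≠ 1
  hkc : k₁ c₁ ∉ ZS S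

theorem Glob.hType (G : Glob p F A) {U : Subgroup Ω} (hU : Good F U) {h : Ω → Ω}
    (hh : Iso F U U h) {z : Ω} (hz : z ∈ ZS S) (hhz : h z ∉ ZS S) : HType S A U := by
  obtain ⟨h1, h2, h3⟩ := G.classify hU.2 hh hz hhz
  exact ⟨hU.ZS_le, hU.le, h1, h2, h3⟩

theorem AData.exists_central (X : AData p S A) : ∃ z ∈ ZS S, z ≠ 1 := by
  have : Nontrivial ↥S := by
    obtain ⟨x, hx, y, hy, hne⟩ := X.hna
    refine ⟨⟨x, hx⟩, ⟨y, hy⟩, fun h => hne ?_⟩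
    have : x = y := congrArg Subtype.val h
    rw [this]
  have hnt : Nontrivial (Subgroup.center ↥S) := X.hS.center_nontrivial
  obtain ⟨w, hw⟩ := exists_ne (1 : Subgroup.center ↥S)
  refine ⟨((w : ↥S) : Ω), ?_, fun h => hw ?_⟩
  · rw [← map_center]
    exact ⟨w, w.2, rfl⟩
  · apply Subtype.ext
    apply Subtype.ext
    exact h

theorem Glob.exists_act (G : Glob p F A) :
    ∃ (D U₁ : Subgroup Ω) (k₁ : Ω → Ω) (x₁ a₁ c₁ : Ω), Act p F A D U₁ k₁ x₁ a₁ c₁ := by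
  have X := G.X
  obtain ⟨z₀, hz₀, hz₀1⟩ := X.exists_central
  have hY := Y1_eq_bot X.hS G.hF G.hcore
  have hzY : z₀ ∉ Y1 F := by
    rw [hY, Subgroup.mem_bot]
    exact hz₀1
  rw [mem_Y1] at hzY
  push Not at hzY
  obtain ⟨U, k, hU, hk, hkz⟩ := hzY hz₀
  have T := G.hType hU hk hz₀ hkz
  obtain ⟨x, hx, hxA⟩ := T.hx
  obtain ⟨a, ha, haU, hcomm⟩ := T.exists_a X
  have hxS := T.hUS hx
  have he := hcomm x hx
  obtain ⟨c, hc⟩ : ∃ c, c = a * x * a⁻¹ * x⁻¹ := ⟨_, rfl⟩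
  rw [← hc] at he
  have hc1 : c ≠ 1 := by
    intro h
    apply hxA
    apply X.ZS_le
    apply T.cent_out X (X.hAS ha) haU hx
    calc a * x = (a * x * a⁻¹ * x⁻¹) * (x * a) := by group
      _ = x * a := by rw [← hc, h, one_mul]
  have hcp : c ^ p = 1 := by
    have h1 := X.comm_decomp hxS ha (hc ▸ he) A.one_mem p
    rw [← hc, one_mul, X.hab a ha _ (X.pow_mem hxS)] at h1
    rw [← h1]
    group
  have hDc : Nat.card (Subgroup.zpowers c) = p := by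
    rw [Nat.card_zpowers, orderOf_eq_prime hcp hc1]
  have hDZ : Subgroup.zpowers c ≤ ZS S := by
    rw [Subgroup.zpowers_le]
    exact he
  have hD : ∀ u ∈ U, a * u * a⁻¹ * u⁻¹ ∈ Subgroup.zpowers c := by
    intro u hu
    obtain ⟨a', ha', i, rfl⟩ := X.decomp hxS hxA (T.hUS hu)
    rw [X.comm_decomp hxS ha (hc ▸ he) ha' i, ← hc]
    exact Subgroup.pow_mem _ (Subgroup.mem_zpowers c) i
  have L := T.mkLoc X hDZ ha haU hD
  have B : Base p F (Subgroup.zpowers c) := ⟨X.hS, G.hF, hDZ, hDc⟩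
  refine ⟨Subgroup.zpowers c, U, k, x, a, c, G, B, T, L, hU, hk, hx, hxA, ha, hc,
    Subgroup.mem_zpowers c, hc1, fun hkc => hkz ?_⟩
  exact (L.inactive B hk (B.map_D hk.mor (Subgroup.mem_zpowers c) hc1 (T.hZU he) hkc)).1 z₀ hz₀

variable {D U₁ : Subgroup Ω} {k₁ : Ω → Ω} {x₁ a₁ c₁ : Ω}

/-- All central commutators `[b, x₁]`, `b ∈ A`, lie in `D`. -/
theorem Act.comm_mem (𝒜 : Act p F A D U₁ k₁ x₁ a₁ c₁) {b : Ω} (hb : b ∈ A)
    (he : b * x₁ * b⁻¹ * x₁⁻¹ ∈ ZS S) : b * x₁ * b⁻¹ * x₁⁻¹ ∈ D := by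
  have X := 𝒜.G.X
  have L := 𝒜.L
  have B := 𝒜.B
  have T := 𝒜.T
  have hxS := T.hUS 𝒜.hx
  have hcZ := B.hDZ 𝒜.hcD
  obtain ⟨m, hm⟩ := L.decomp B 𝒜.hk 𝒜.hcD 𝒜.hkc _ (T.hZU he)
  obtain ⟨kinv, hkinv, h1, h2⟩ := 𝒜.hk.symm
  -- the element `b' = b a₁ ^ m`
  have hb' : b * a₁ ^ m ∈ A := A.mul_mem hb (A.pow_mem 𝒜.ha m)
  have hcm : c₁ ^ m ∈ ZS S := (ZS S).pow_mem hcZ m
  have hw : (b * a₁ ^ m) * x₁ * (b * a₁ ^ m)⁻¹ * x₁⁻¹ = b * x₁ * b⁻¹ * x₁⁻¹ * c₁ ^ m := by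
    have h3 := L.pow_comm 𝒜.hx m
    rw [← 𝒜.hc] at h3
    calc (b * a₁ ^ m) * x₁ * (b * a₁ ^ m)⁻¹ * x₁⁻¹
        = b * (a₁ ^ m * x₁ * (a₁ ^ m)⁻¹ * x₁⁻¹) * x₁ * b⁻¹ * x₁⁻¹ := by group
      _ = b * c₁ ^ m * x₁ * b⁻¹ * x₁⁻¹ := by rw [h3]
      _ = c₁ ^ m * b * x₁ * b⁻¹ * x₁⁻¹ := by rw [ZS_comm hcm (X.hAS hb)]
      _ = c₁ ^ m * (b * x₁ * b⁻¹ * x₁⁻¹) := by group
      _ = b * x₁ * b⁻¹ * x₁⁻¹ * c₁ ^ m := by rw [ZS_comm he (ZS_le hcm)]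
  obtain ⟨w, hwdef⟩ : ∃ w, w = b * x₁ * b⁻¹ * x₁⁻¹ * c₁ ^ m := ⟨_, rfl⟩
  rw [← hwdef] at hm hw
  have hwZ : w ∈ ZS S := by
    rw [hwdef]
    exact (ZS S).mul_mem he hcm
  have hmor : Mor F (ZS S) kinv := hkinv.mor.mono T.hZU
  obtain ⟨g0, hg0, -, -⟩ := hmor.iso_img.symm
  have hZ'U : img (ZS S) kinv ≤ U₁ := by
    intro y hy
    obtain ⟨z, hz, rfl⟩ := (hmor.mem_img y).1 hy
    exact hkinv.map_mem (T.hZU hz)
  have hwZ' : w ∈ img (ZS S) kinv := (hmor.mem_img _).2 ⟨k₁ w, hm, h1 w (T.hZU hwZ)⟩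
  have key : ∀ d ∈ img (ZS S) kinv, (b * a₁ ^ m) * d * (b * a₁ ^ m)⁻¹ = d := by
    refine Cfsg.Agent.S5274.conj_trivial B.hS B.hF hg0 le_rfl (X.hAS hb') (fun d hd => ?_)
    obtain ⟨a', ha', i, hdi⟩ := X.decomp hxS 𝒜.hxA (T.hUS (hZ'U hd))
    have h4 := X.comm_decomp hxS hb' (by rw [hw]; exact hwZ) ha' i
    rw [← hdi, hw] at h4
    have : (b * a₁ ^ m) * d * (b * a₁ ^ m)⁻¹ = ((b * a₁ ^ m) * d * (b * a₁ ^ m)⁻¹ * d⁻¹) * d := by
      group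
    rw [this, h4]
    exact Subgroup.mul_mem _ (Subgroup.pow_mem _ hwZ' i) hd
  -- an element of `k₁⁻¹(Z)` outside `Z`
  have hd0 : kinv c₁ ∉ ZS S := L.inv_active B 𝒜.hk hkinv h1 𝒜.hcD 𝒜.hc1 𝒜.hkc
  have hd0' : kinv c₁ ∈ img (ZS S) kinv := (hmor.mem_img _).2 ⟨c₁, hcZ, rfl⟩
  have hd0A : kinv c₁ ∉ A := fun h => hd0 (T.hUA _ (hZ'U hd0') h)
  have hb'Z : b * a₁ ^ m ∈ ZS S := by
    apply X.mem_ZS (T.hUS (hZ'U hd0')) hd0A hb'
    have := key _ hd0'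
    calc (b * a₁ ^ m) * kinv c₁ = ((b * a₁ ^ m) * kinv c₁ * (b * a₁ ^ m)⁻¹) * (b * a₁ ^ m) := by
          group
      _ = kinv c₁ * (b * a₁ ^ m) := by rw [this]
  have hw1 : w = 1 := by
    rw [← hw, ← ZS_comm hb'Z hxS]
    group
  have : b * x₁ * b⁻¹ * x₁⁻¹ = (c₁ ^ m)⁻¹ := by
    apply eq_inv_of_mul_eq_one_left
    rw [← hwdef, hw1]
  rw [this]
  exact D.inv_mem (D.pow_mem 𝒜.hcD m)

theorem Act.loc (𝒜 : Act p F A D U₁ k₁ x₁ a₁ c₁) {U : Subgroup Ω} (T : HType S A U) :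
    ∃ a, Loc S D U a := by
  have X := 𝒜.G.X
  have hx₁S := 𝒜.T.hUS 𝒜.hx
  obtain ⟨x, hx, hxA⟩ := T.hx
  obtain ⟨a, ha, haU, hcomm⟩ := T.exists_a X
  have hxS := T.hUS hx
  have h1 : a * x₁ * a⁻¹ * x₁⁻¹ ∈ ZS S := by
    obtain ⟨a', ha', i, hi⟩ := X.decomp hxS hxA hx₁S
    rw [hi, X.comm_decomp hxS ha (hcomm x hx) ha' i]
    exact (ZS S).pow_mem (hcomm x hx) i
  have h2 := 𝒜.comm_mem ha h1
  refine ⟨a, T.mkLoc X 𝒜.B.hDZ ha haU (fun u hu => ?_)⟩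
  obtain ⟨a', ha', i, rfl⟩ := X.decomp hx₁S 𝒜.hxA (T.hUS hu)
  rw [X.comm_decomp hx₁S ha h1 ha' i]
  exact D.pow_mem h2 i

/-- For odd `p` the centre of `S` is `D`. -/
theorem Act.ZS_le (𝒜 : Act p F A D U₁ k₁ x₁ a₁ c₁) (hp2 : p ≠ 2) : ZS S ≤ D := by
  have X := 𝒜.G.X
  have B := 𝒜.B
  have hc := 𝒜.hcD
  have hc1 := 𝒜.hc1
  have hcZ := B.hDZ hc
  have hY0 := Y1_eq_bot X.hS 𝒜.G.hF 𝒜.G.hcore
  obtain ⟨τ₁, hτ₁, hd₁, hz₁, hy₁⟩ := 𝒜.L.tau_ZS B 𝒜.hk hc hc1 𝒜.hkc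
  have hY : ∀ y ∈ ZS S, k₁ y ∈ ZS S → y = 1 := by
    intro y hy hky
    rw [← Subgroup.mem_bot, ← hY0, mem_Y1]
    refine ⟨hy, fun U k hU hk => ?_⟩
    by_contra hkyZ
    have T := 𝒜.G.hType hU hk hy hkyZ
    obtain ⟨a, L⟩ := 𝒜.loc T
    have hkc : k c₁ ∉ ZS S := fun h =>
      hkyZ ((L.inactive B hk (B.map_D hk.mor hc hc1 (T.hZU hcZ) h)).1 y hy)
    obtain ⟨τ, hτ, hd, hz, hy'⟩ := L.tau_ZS B hk hc hc1 hkc
    have e := B.uniq hτ hτ₁ hd hd₁ hz hz₁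
    obtain ⟨m, hm⟩ := L.decomp B hk hc hkc y (T.hZU hy)
    have hcm : c₁ ^ m ∈ ZS S := (ZS S).pow_mem hcZ m
    have h1 := hy' _ ((ZS S).mul_mem hy hcm) hm
    rw [hτ.map_mul hy hcm, e y hy, hy₁ y hy hky, hd _ (D.pow_mem hc m)] at h1
    have h2 : (c₁ ^ m) ^ 2 = 1 := by
      have h3 : (c₁ ^ m)⁻¹ = c₁ ^ m := mul_left_cancel h1
      rw [pow_two]
      nth_rewrite 1 [← h3]
      group
    have h4 : (c₁ ^ m) ^ p = 1 := pow_card_D B.hDc (D.pow_mem hc m)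
    have hcop : Nat.Coprime 2 p := by
      rw [Nat.coprime_primes Nat.prime_two hp.out]
      exact fun h => hp2 h.symm
    have h5 : c₁ ^ m = 1 := by
      have h6 := pow_gcd_eq_one.2 ⟨h2, h4⟩
      rwa [Nat.Coprime.gcd_eq_one hcop, pow_one] at h6
    rw [h5, mul_one] at hm
    exact hkyZ hm
  intro z hz
  obtain ⟨m, hm⟩ := 𝒜.L.decomp B 𝒜.hk hc 𝒜.hkc z (𝒜.T.hZU hz)
  have h1 := hY _ ((ZS S).mul_mem hz ((ZS S).pow_mem hcZ m)) hm
  have : z = (c₁ ^ m)⁻¹ := eq_inv_of_mul_eq_one_left h1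
  rw [this]
  exact D.inv_mem (D.pow_mem hc m)

theorem Act.essential (𝒜 : Act p F A D U₁ k₁ x₁ a₁ c₁) : F.IsEssential p U₁ := by
  have X := 𝒜.G.X
  have T := 𝒜.T
  have hcZ := 𝒜.B.hDZ 𝒜.hcD
  rcases Cfsg.Agent.Lib.Helper86.extendable_dichotomy X.hS F 𝒜.G.hF (T.lt X) 𝒜.good.1 with
    h1 | h1
  · exfalso
    obtain ⟨α, hα, e⟩ := 𝒜.hk.exists_aut
    rw [← h1.2] at hα
    have key : ∀ β ∈ Subgroup.closure (Cfsg.Agent.Lib.Helper86.extGens F U₁),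
        ∀ x : U₁, ((x : Ω) ∈ ZS S ↔ ((β x : U₁) : Ω) ∈ ZS S) := by
      intro β hβ
      induction hβ using Subgroup.closure_induction with
      | mem β hβ =>
        obtain ⟨Q, hUQ, φ, hφ, e'⟩ := hβ
        have hQS : Q ≤ S := (F.le_of_mem hφ).1
        obtain ⟨y, hy, hyU⟩ := SetLike.not_le_iff_exists.1 (not_le_of_gt hUQ)
        have hm : Mor F Q (ext φ) := Mor.of_hom hφ
        have hfx : ∀ x : U₁, ext φ (x : Ω) = ((β x : U₁) : Ω) := by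
          intro x
          rw [ext_apply φ (hUQ.le x.2), ← e' x]
          rfl
        have hfyU : ext φ y ∉ U₁ := by
          intro h
          obtain ⟨u, hu⟩ := β.surjective ⟨ext φ y, h⟩
          have h2 : ext φ (u : Ω) = ext φ y := by rw [hfx u, hu]
          have h3 := hm.inj (hUQ.le u.2) hy h2
          exact hyU (h3 ▸ u.2)
        intro x
        have hxQ : (x : Ω) ∈ Q := hUQ.le x.2
        rw [← hfx x]
        constructor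
        · intro hx
          apply T.cent_out X (hm.mem hy) hfyU (by rw [hfx x]; exact (β x).2)
          rw [← hm.map_mul hy hxQ, ← hm.map_mul hxQ hy, ZS_comm hx (hQS hy)]
        · intro hx
          apply T.cent_out X (hQS hy) hyU x.2
          apply hm.inj (Q.mul_mem hy hxQ) (Q.mul_mem hxQ hy)
          rw [hm.map_mul hy hxQ, hm.map_mul hxQ hy, ZS_comm hx (hm.mem hy)]
      | one => intro x; rfl
      | mul β γ _ _ hβ hγ =>
        intro x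
        rw [MulAut.mul_apply]
        exact (hγ x).trans (hβ _)
      | inv β _ hβ =>
        intro x
        have := hβ (β⁻¹ x)
        rw [MulAut.apply_inv_self] at this
        exact this.symm
    have h2 := (key α hα ⟨c₁, T.hZU hcZ⟩).1 hcZ
    rw [e] at h2
    exact 𝒜.hkc h2
  · exact h1.1

end Cfsg.Agent.Lib.Helper16.AI
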